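import Groth.Agent.UIEndo.Integral
import Groth.Agent.SGA1Quot.Sigma
import Groth.Agent.CycLib.ClosedPt

/-!
# Radicial endomorphisms of schemes of finite type over `ℤ` are finite
-/

set_option autoImplicit false
set_option linter.style.haveILetI false
set_option backward.isDefEq.respectTransparency false
set_option backward.isDefEq.respectTransparency.types false

universe u

open CategoryTheory Limits AlgebraicGeometry TopologicalSpace

namespace Groth.Agent.UIEndo

open FlatMor

variable {X : Scheme.{u}} [CompactSpace X] [LocallyOfFiniteType (MonoEndo.toInt X)]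

/-- A universally injective endomorphism has an iterate fixing all generic points. -/
theorem exists_it_fixes (g : X ⟶ X) (hinj : Function.Injective g.base) :
    ∃ N, 0 < N ∧ ∀ z : X, closure {z} ∈ irreducibleComponents X → it g N z = z := by
  haveI := isNoetherian (X := X)
  have hsurj := surjective_of_injective g hinj
  let G : Set X := {z | closure {z} ∈ irreducibleComponents X}
  have hG : G.Finite := NoetherianSpace.finite_irreducibleComponents.preimage fun a _ b _ h =>
    (show IsGenericPoint a (closure {b}) from h).eq (rfl : IsGenericPoint b (closure {b}))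
  have hsub : G ⊆ g.base '' G := fun ξ hξ => by
    obtain ⟨y, rfl⟩ := hsurj ξ
    obtain ⟨z, hz, hzy⟩ := GenericPts.exists_generic_specializes y
    have hsp := hzy.map g.continuous
    have hle : closure {g.base y} ⊆ closure {g.base z} := hsp.closure_subset
    have heq : closure {g.base z} = closure {g.base y} :=
      (hξ.2 isIrreducible_singleton.closure hle).antisymm hle
    exact ⟨z, hz, (show IsGenericPoint (g.base z) (closure {g.base y}) from heq).eq rfl⟩
  have himg : g.base '' G = G :=
    (Set.eq_of_subset_of_ncard_le hsub (Set.ncard_image_le hG) (hG.image _)).symm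
  have hmaps : Set.MapsTo g.base G G := fun z hz => himg ▸ ⟨z, hz, rfl⟩
  haveI : Finite G := hG.to_subtype
  let σ : Equiv.Perm G := Equiv.ofBijective (hmaps.restrict g.base G G)
    (Finite.injective_iff_bijective.1 ((hmaps.restrict_inj).2 hinj.injOn))
  have hit : ∀ (n : ℕ) (z : G), ((σ ^ n) z).1 = (⇑g.base)^[n] z.1 := fun n => by
    induction n with
    | zero => intro z; rfl
    | succ n ih =>
      intro z
      rw [pow_succ', Equiv.Perm.mul_apply, Function.iterate_succ_apply', ← ih z]
      rfl
  refine ⟨orderOf σ, orderOf_pos σ, fun z hz => ?_⟩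
  have := hit (orderOf σ) ⟨z, hz⟩
  rw [pow_orderOf_eq_one] at this
  rw [it_apply]
  exact this.symm

/-- A universally injective endomorphism fixing the generic points is universally closed. -/
theorem universallyClosed_of_fixes (f : X ⟶ X) [UniversallyInjective f]
    (hfix : ∀ z : X, closure {z} ∈ irreducibleComponents X → f z = z) : UniversallyClosed f := by
  haveI := isNoetherian (X := X)
  let G : Set X := {z | closure {z} ∈ irreducibleComponents X}
  have hG : G.Finite := NoetherianSpace.finite_irreducibleComponents.preimage fun a _ b _ h =>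
    (show IsGenericPoint a (closure {b}) from h).eq (rfl : IsGenericPoint b (closure {b}))
  haveI : Finite G := hG.to_subtype
  choose Z hZ i hi hgen hrange using fun z : G => CycLib.exists_closure_subscheme (X := X) z.1
  have hfin : ∀ z : G, IsFinite (i z ≫ f) := fun z => by
    haveI := hZ z
    haveI := hi z
    obtain ⟨h, hh⟩ := exists_lift (i z) (i z ≫ f) (by
      rintro _ ⟨t, rfl⟩
      rw [hrange, Scheme.Hom.comp_apply]
      have h1 := ((hrange z _).1 ⟨t, rfl⟩).map f.continuous
      rwa [hfix z.1 z.2] at h1)
    haveI : CompactSpace (Z z) := QuasiCompact.compactSpace_of_compactSpace (i z)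
    haveI : LocallyOfFiniteType (MonoEndo.toInt (Z z)) := by
      rw [specULiftZIsTerminal.hom_ext (MonoEndo.toInt (Z z)) (i z ≫ MonoEndo.toInt X)]
      infer_instance
    haveI : UniversallyInjective (h ≫ i z) := by
      rw [hh]; exact MorphismProperty.comp_mem _ _ _ inferInstance inferInstance
    haveI : UniversallyInjective h := by
      refine ((tfae_universallyInjective h).out 1 0).1 fun K hF a b hab => ?_
      have hK : ∀ (K : Type u) [Field K],
          Function.Injective (fun a : Spec (.of K) ⟶ Z z ↦ a ≫ h ≫ i z) :=
        ((tfae_universallyInjective (h ≫ i z)).out 0 1).1 ‹UniversallyInjective (h ≫ i z)›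
      apply @hK K hF
      show a ≫ h ≫ i z = b ≫ h ≫ i z
      rw [reassoc_of% (show a ≫ h = b ≫ h from hab)]
    have hη : h (genericPoint (Z z)) = genericPoint (Z z) := by
      apply (i z).isClosedEmbedding.injective
      rw [← Scheme.Hom.comp_apply, hh, Scheme.Hom.comp_apply, hgen, hfix z.1 z.2]
    haveI := isFinite_integral h hη
    rw [← hh]; infer_instance
  let π : (∐ fun z : G => Z z) ⟶ X := Limits.Sigma.desc i
  haveI : Surjective π := Surjective.sigmaDesc_of_union_range_eq_univ <|
    Set.eq_univ_of_forall fun x => by
      obtain ⟨z, hz, hzx⟩ := GenericPts.exists_generic_specializes x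
      exact Set.mem_iUnion.2 ⟨⟨z, hz⟩, (hrange ⟨z, hz⟩ x).2 hzx⟩
  haveI : IsFinite (π ≫ f) := by
    rw [show π ≫ f = Limits.Sigma.desc fun z => i z ≫ f from
      Limits.Sigma.hom_ext _ _ fun z => by simp [π]]
    exact SGA1Quot.isFinite_sigmaDesc _ _ _ hfin
  exact UniversallyClosed.of_comp_surjective π f

/-- A universally injective endomorphism is bijective and finite. -/
theorem core (g : X ⟶ X) [UniversallyInjective g] :
    Function.Bijective g.base ∧ IsFinite g := by
  refine ⟨⟨g.injective, surjective_of_injective g g.injective⟩, ?_⟩
  obtain ⟨N, hN, hfix⟩ := exists_it_fixes g g.injective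
  haveI := universallyInjective_it g N
  haveI := universallyClosed_of_fixes (it g N) hfix
  obtain ⟨M, rfl⟩ : ∃ M, N = M + 1 := ⟨N - 1, by omega⟩
  haveI := universallyInjective_it g M
  haveI : IsSeparated (it g M) := isSeparated _
  haveI : UniversallyClosed (g ≫ it g M) := ‹UniversallyClosed (it g (M + 1))›
  haveI : UniversallyClosed g := UniversallyClosed.of_comp_of_isSeparated g (it g M)
  exact isFinite_of_universallyClosed g

end Groth.Agent.UIEndo
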