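import Groth.Agent.FlatMor.MonoEndo.Int
import Groth.Agent.FlatMor.GenericPts
import Mathlib.AlgebraicGeometry.Morphisms.UniversallyInjective
import Mathlib.AlgebraicGeometry.Morphisms.QuasiFinite
import Mathlib.AlgebraicGeometry.Morphisms.FinitePresentation
import Mathlib.FieldTheory.Finite.GaloisField

/-!
# Injective endomorphisms of schemes of finite type over `ℤ`
-/

set_option autoImplicit false
set_option linter.style.haveILetI false
set_option backward.isDefEq.respectTransparency false

universe u

open CategoryTheory Limits AlgebraicGeometry TopologicalSpace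

namespace Groth.Agent.UIEndo

open FlatMor

theorem isNoetherianRing_uliftInt : IsNoetherianRing (ULift.{u} ℤ) :=
  isNoetherianRing_of_ringEquiv ℤ ULift.ringEquiv.symm

variable {X : Scheme.{u}} [CompactSpace X] [LocallyOfFiniteType (MonoEndo.toInt X)]

theorem isNoetherian : IsNoetherian X :=
  haveI : IsNoetherianRing (ULift.{u} ℤ) := isNoetherianRing_uliftInt
  haveI : IsLocallyNoetherian X := LocallyOfFiniteType.isLocallyNoetherian (MonoEndo.toInt X)
  { }

theorem jacobsonSpace : JacobsonSpace X :=
  haveI : IsJacobsonRing (ULift.{u} ℤ) := S4886.isJacobsonRing_uliftInt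
  LocallyOfFiniteType.jacobsonSpace (MonoEndo.toInt X)

theorem locallyOfFiniteType (g : X ⟶ X) : LocallyOfFiniteType g := by
  haveI : LocallyOfFiniteType (g ≫ MonoEndo.toInt X) := by
    rw [specULiftZIsTerminal.hom_ext (g ≫ MonoEndo.toInt X) (MonoEndo.toInt X)]; infer_instance
  exact locallyOfFiniteType_of_comp g (MonoEndo.toInt X)

omit [CompactSpace X] [LocallyOfFiniteType (MonoEndo.toInt X)] in
theorem nonempty_inter_closedPoints' [JacobsonSpace X] {C : Set X}
    (hC : Topology.IsConstructible C) : C.Nonempty → (C ∩ closedPoints X).Nonempty := by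
  induction C, hC using BooleanSubalgebra.closure_sdiff_sup_induction with
  | isSublattice =>
    exact ⟨fun s hs t ht ↦ ⟨hs.1.union ht.1, hs.2.union ht.2⟩,
      fun s hs t ht ↦ ⟨hs.1.inter ht.1, hs.2.inter_isOpen ht.2 ht.1⟩⟩
  | bot_mem => exact ⟨isOpen_empty, .empty⟩
  | top_mem => exact ⟨isOpen_univ, .univ⟩
  | sdiff U hU V hV =>
    exact fun h => nonempty_inter_closedPoints h
      (hU.1.isLocallyClosed.inter hV.1.isClosed_compl.isLocallyClosed)
  | sup s _ t _ hs ht =>
    rintro ⟨x, hx | hx⟩
    · obtain ⟨y, hy, hy'⟩ := hs ⟨x, hx⟩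
      exact ⟨y, .inl hy, hy'⟩
    · obtain ⟨y, hy, hy'⟩ := ht ⟨x, hx⟩
      exact ⟨y, .inr hy, hy'⟩

/-- An injective endomorphism is surjective. -/
theorem surjective_of_injective (g : X ⟶ X) (hg : Function.Injective g.base) :
    Function.Surjective g.base := by
  haveI := isNoetherian (X := X)
  haveI := jacobsonSpace (X := X)
  haveI := locallyOfFiniteType g
  have hcl : closedPoints X ⊆ Set.range g.base := fun y hy => by
    haveI := ((S4886.result X).1 y).1 hy
    let d := Nat.card (X.residueField y)
    let T : Set X := {x | Finite (X.residueField x) ∧ Nat.card (X.residueField x) ≤ d}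
    have hS : ∀ k : ℕ, {x : X | Finite (X.residueField x) ∧ Nat.card (X.residueField x) = k}.Finite := by
      intro k
      rcases Set.eq_empty_or_nonempty
          {x : X | Finite (X.residueField x) ∧ Nat.card (X.residueField x) = k} with h | ⟨x₀, hx₀, hk₀⟩
      · simp [h]
      haveI := hx₀
      haveI := MonoEndo.finite_hom (X := X) (X.residueField x₀)
      have : ∀ x : {x : X | Finite (X.residueField x) ∧ Nat.card (X.residueField x) = k},
          ∃ h : Spec (CommRingCat.of (X.residueField x₀)) ⟶ X,
            h (IsLocalRing.closedPoint _) = x.1 := fun ⟨x, hx, hk⟩ => by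
        haveI : Finite (X.residueField x) := hx
        haveI := Fintype.ofFinite (X.residueField x₀)
        haveI := Fintype.ofFinite (X.residueField x)
        let e := FiniteField.ringEquivOfCardEq (K := X.residueField x) (K' := X.residueField x₀)
          (by rw [← Nat.card_eq_fintype_card, ← Nat.card_eq_fintype_card, hk, hk₀])
        refine ⟨Spec.map (CommRingCat.ofHom e.toRingHom) ≫ X.fromSpecResidueField x, ?_⟩
        rw [Scheme.Hom.comp_apply]
        exact Scheme.fromSpecResidueField_apply _ _
      choose φ hφ using this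
      exact Finite.of_injective φ fun a b h => Subtype.ext ((hφ a).symm.trans (h ▸ hφ b))
    have hT : T.Finite :=
      ((Set.finite_Iic d).biUnion fun k _ => hS k).subset fun x hx =>
        Set.mem_biUnion (x := Nat.card (X.residueField x)) hx.2 ⟨hx.1, rfl⟩
    have hmaps : Set.MapsTo g.base T T := fun x ⟨hx, hxd⟩ => by
      haveI := hx
      have hinj : Function.Injective (g.residueFieldMap x) := (g.residueFieldMap x).hom.injective
      exact ⟨Finite.of_injective _ hinj, (Nat.card_le_card_of_injective _ hinj).trans hxd⟩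
    haveI : Finite T := hT.to_subtype
    obtain ⟨⟨x, _⟩, hx⟩ := Finite.surjective_of_injective
      ((hmaps.restrict_inj).2 hg.injOn) ⟨y, ‹_›, le_rfl⟩
    exact ⟨x, congrArg Subtype.val hx⟩
  intro y
  by_contra h
  have hc : Topology.IsConstructible (Set.range g.base)ᶜ := by
    rw [← Set.image_univ]
    exact (g.isConstructible_image .univ).compl
  obtain ⟨z, hz, hz'⟩ := nonempty_inter_closedPoints' hc ⟨y, h⟩
  exact hz (hcl hz')

/-- Iterates of an endomorphism. -/
noncomputable def it {Y : Scheme.{u}} (g : Y ⟶ Y) : ℕ → (Y ⟶ Y)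
  | 0 => 𝟙 Y
  | n + 1 => g ≫ it g n

theorem it_apply {Y : Scheme.{u}} (g : Y ⟶ Y) (n : ℕ) (y : Y) : it g n y = (⇑g.base)^[n] y := by
  induction n generalizing y with
  | zero => rfl
  | succ n ih => rw [it, Scheme.Hom.comp_apply, ih, Function.iterate_succ_apply]

theorem universallyInjective_it {Y : Scheme.{u}} (g : Y ⟶ Y) [UniversallyInjective g] (n : ℕ) :
    UniversallyInjective (it g n) := by
  induction n with
  | zero => exact inferInstanceAs (UniversallyInjective (𝟙 Y))
  | succ n ih => exact MorphismProperty.comp_mem _ _ _ ‹_› ih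

/-- A universally injective morphism is separated. -/
theorem isSeparated {A B : Scheme.{u}} (g : A ⟶ B) [UniversallyInjective g] : IsSeparated g := by
  refine ⟨?_⟩
  have h : Surjective (pullback.diagonal g) := (UniversallyInjective.iff_diagonal g).1 ‹_›
  exact IsClosedImmersion.of_isPreimmersion _ (by rw [h.surj.range_eq]; exact isClosed_univ)

/-- A morphism from a reduced scheme factors through a closed immersion containing its image. -/
theorem exists_lift {Z T Y : Scheme.{u}} [IsReduced T] (i : Z ⟶ Y) [IsClosedImmersion i]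
    (h : T ⟶ Y) (hr : Set.range h ⊆ Set.range i) : ∃ k : T ⟶ Z, k ≫ i = h := by
  haveI : Surjective (pullback.snd i h) := ⟨Set.range_eq_univ.1 <| by
    rw [Scheme.Pullback.range_snd]
    exact Set.eq_univ_of_forall fun t => hr ⟨t, rfl⟩⟩
  haveI : IsIso (pullback.snd i h) := isIso_of_isClosedImmersion_of_surjective _
  exact ⟨inv (pullback.snd i h) ≫ pullback.fst i h, by
    rw [Category.assoc, pullback.condition, IsIso.inv_hom_id_assoc]⟩

end Groth.Agent.UIEndo
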