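import Groth.Agent.NormalSec.Basic
import Groth.Prelude.Def_Pi1
import Mathlib.AlgebraicGeometry.Normalization
import Mathlib.AlgebraicGeometry.ResidueField
import Mathlib.AlgebraicGeometry.FunctionField

/-!
# Relative normalization of a normal scheme in a purely inseparable extension is radicial
-/

set_option autoImplicit false
set_option linter.style.haveILetI false
set_option backward.isDefEq.respectTransparency false
set_option backward.isDefEq.respectTransparency.types false

universe u

open CategoryTheory AlgebraicGeometry TopologicalSpace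

namespace Groth.Agent.UIEndo

variable {Y : Scheme.{u}} [IsIntegral Y]

theorem evaluation_generic (y : Y) (hy : y = genericPoint Y) (U : Y.Opens) (hU : IsAffineOpen U)
    (hyU : y ∈ U) : Function.Injective (Y.evaluation U y hyU) ∧
      ∀ e : Y.residueField y, ∃ a b : Γ(Y, U), Y.evaluation U y hyU b ≠ 0 ∧
        e = Y.evaluation U y hyU a / Y.evaluation U y hyU b := by
  subst hy
  haveI : Nonempty U := ⟨⟨_, hyU⟩⟩
  haveI := functionField_isFractionRing_of_isAffineOpen Y U hU
  have hres : Function.Injective (Y.residue (genericPoint Y)).hom :=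
    RingHom.injective (R := Y.functionField) (Y.residue (genericPoint Y)).hom
  refine ⟨hres.comp (germ_injective_of_isIntegral Y _ hyU), fun e => ?_⟩
  obtain ⟨s, rfl⟩ := Scheme.residue_surjective Y _ e
  obtain ⟨a, b, hb, rfl⟩ := IsFractionRing.div_surjective (A := Γ(Y, U)) (K := Y.functionField) s
  refine ⟨a, b, fun h => nonZeroDivisors.ne_zero hb ?_, ?_⟩
  · exact (hres.comp (germ_injective_of_isIntegral Y _ hyU))
      ((h : Y.evaluation U (genericPoint Y) hyU b = 0).trans (map_zero (Y.evaluation U (genericPoint Y) hyU).hom).symm)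
  · exact map_div₀ (Y.residue (genericPoint Y)).hom _ _

theorem mem_range_evaluation (hN : Pi1.IsNormalScheme Y) (y : Y) (hy : y = genericPoint Y)
    (U : Y.Opens) (hU : IsAffineOpen U) (hyU : y ∈ U) {L : Type u} [Field L]
    (φ : Y.residueField y →+* L) (e : Y.residueField y)
    (he : (φ.comp (Y.evaluation U y hyU).hom).IsIntegralElem (φ e)) :
    ∃ a, Y.evaluation U y hyU a = e := by
  obtain ⟨hinj, hdiv⟩ := evaluation_generic y hy U hU hyU
  haveI : Nonempty U := ⟨⟨_, hyU⟩⟩
  haveI : IsDomain Γ(Y, U) := IsIntegral.component_integral U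
  haveI : IsIntegrallyClosed Γ(Y, U) :=
    NormalSec.isIntegrallyClosed_sections U (fun y _ => (hN y).1) (fun y _ => (hN y).2)
      fun b hb y hy h => hb (germ_injective_of_isIntegral _ y hy (h.trans (map_zero _).symm))
  letI : Algebra Γ(Y, U) (Y.residueField y) := (Y.evaluation U y hyU).hom.toAlgebra
  haveI : FaithfulSMul Γ(Y, U) (Y.residueField y) := (faithfulSMul_iff_algebraMap_injective _ _).2 hinj
  haveI : IsFractionRing Γ(Y, U) (Y.residueField y) := IsFractionRing.of_field _ _ fun z => by
    obtain ⟨a, b, -, h⟩ := hdiv z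
    exact ⟨a, b, h⟩
  obtain ⟨p, hp, hpe⟩ := he
  have hint : IsIntegral Γ(Y, U) e := ⟨p, hp, φ.injective (by
    rw [map_zero, Polynomial.hom_eval₂]; exact hpe)⟩
  exact (isIntegrallyClosed_iff (Y.residueField y)).1 inferInstance hint

/-- The relative normalization of a normal integral scheme in an integral scheme with purely
inseparable generic residue extension maps injectively. -/
theorem injective_fromNormalization {X : Scheme.{u}} [IsIntegral X] (f : X ⟶ Y) [QuasiCompact f]
    [QuasiSeparated f] (hN : Pi1.IsNormalScheme Y) (hη : f (genericPoint X) = genericPoint Y)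
    (hins : ∀ x : X.residueField (genericPoint X), ∃ n, 0 < n ∧
      x ^ n ∈ Set.range (f.residueFieldMap (genericPoint X))) :
    Function.Injective f.fromNormalization.base := by
  intro z₁ z₂ hz
  obtain ⟨U, hU, hzU, -⟩ := exists_isAffineOpen_mem_and_subset
    (x := f.fromNormalization z₁) (U := (⊤ : Y.Opens)) trivial
  letI := (f.app U).hom.toAlgebra
  have hmem : ∀ z, f.fromNormalization z ∈ U → z ∈ (f.normalizationOpenCover.f ⟨U, hU⟩).opensRange := by
    intro z hzz
    rw [← f.fromNormalization_preimage ⟨U, hU⟩]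
    exact hzz
  obtain ⟨a₁, rfl⟩ := hmem z₁ hzU
  obtain ⟨a₂, rfl⟩ := hmem z₂ (by
    have : f.fromNormalization z₂ = f.fromNormalization _ := hz.symm
    rw [this]; exact hzU)
  have hc := f.ι_fromNormalization ⟨U, hU⟩
  have heq : Spec.map (f.normalizationDiagramMap.app (.op U)) a₁ =
      Spec.map (f.normalizationDiagramMap.app (.op U)) a₂ := by
    apply hU.fromSpec.isOpenEmbedding.injective
    rw [← Scheme.Hom.comp_apply, ← Scheme.Hom.comp_apply, ← hc, Scheme.Hom.comp_apply,
      Scheme.Hom.comp_apply]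
    exact hz
  have hgU : f (genericPoint X) ∈ U := by
    rw [hη]; exact (genericPoint_specializes _).mem_open U.2 hzU
  haveI : Nonempty ↥(f ⁻¹ᵁ U) := ⟨⟨genericPoint X, hgU⟩⟩
  have hψinj : Function.Injective (X.evaluation (f ⁻¹ᵁ U) (genericPoint X) hgU) :=
    (RingHom.injective (R := X.functionField) (X.residue (genericPoint X)).hom).comp
      (germ_injective_of_isIntegral X _ hgU)
  have key : ∀ b : integralClosure Γ(Y, U) Γ(X, f ⁻¹ᵁ U), ∃ (n : ℕ) (a : Γ(Y, U)),
      0 < n ∧ b ^ n = algebraMap _ _ a := by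
    intro b
    let ψ := (X.evaluation (f ⁻¹ᵁ U) (genericPoint X) hgU).hom
    let φ := (f.residueFieldMap (genericPoint X)).hom
    obtain ⟨n, hn, e, he⟩ := hins (ψ b.1)
    have hnat : φ.comp (Y.evaluation U (f (genericPoint X)) hgU).hom = ψ.comp (f.app U).hom :=
      RingHom.ext fun a => Scheme.evaluation_naturality_apply f (genericPoint X) hgU a
    have hint : (φ.comp (Y.evaluation U (f (genericPoint X)) hgU).hom).IsIntegralElem (φ e) := by
      obtain ⟨p, hp, hpe⟩ := (b.2.pow n : IsIntegral Γ(Y, U) (b.1 ^ n))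
      refine ⟨p, hp, ?_⟩
      have h2 := congrArg ψ hpe
      rw [map_zero, Polynomial.hom_eval₂, map_pow] at h2
      rw [hnat]
      rw [← he] at h2
      exact h2
    obtain ⟨a, ha⟩ := mem_range_evaluation hN (f (genericPoint X)) hη U hU hgU φ e hint
    refine ⟨n, a, hn, Subtype.ext (hψinj ?_)⟩
    show ψ (b.1 ^ n) = ψ ((f.app U).hom a)
    rw [map_pow, ← he, ← ha]
    exact RingHom.congr_fun hnat a
  have hle : ∀ q₁ q₂ : PrimeSpectrum (integralClosure Γ(Y, U) Γ(X, f ⁻¹ᵁ U)),
      PrimeSpectrum.comap (algebraMap Γ(Y, U) (integralClosure Γ(Y, U) Γ(X, f ⁻¹ᵁ U))) q₁ =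
        PrimeSpectrum.comap (algebraMap Γ(Y, U) (integralClosure Γ(Y, U) Γ(X, f ⁻¹ᵁ U))) q₂ →
      q₁.asIdeal ≤ q₂.asIdeal := by
    intro q₁ q₂ h b hb
    obtain ⟨n, a, hn, hba⟩ := key b
    have h1 : a ∈ q₁.asIdeal.comap (algebraMap Γ(Y, U) _) := by
      show algebraMap Γ(Y, U) _ a ∈ q₁.asIdeal
      rw [← hba]; exact Ideal.pow_mem_of_mem _ hb n hn
    have h' : q₁.asIdeal.comap (algebraMap Γ(Y, U) _) = q₂.asIdeal.comap (algebraMap Γ(Y, U) _) :=
      congrArg PrimeSpectrum.asIdeal h
    rw [h'] at h1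
    exact q₂.2.mem_of_pow_mem n (by rw [hba]; exact h1)
  have : a₁ = a₂ := PrimeSpectrum.ext (le_antisymm (hle _ _ heq) (hle _ _ heq.symm))
  rw [this]

end Groth.Agent.UIEndo
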