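import Groth.Agent.UIEndo.Basic
import Groth.Agent.UIEndo.Normal
import Groth.Agent.Curv2Norm.Birational
import Groth.Agent.NormFinCpl.Scheme
import Groth.Agent.S9690
import Groth.Agent.S0566
import Mathlib.AlgebraicGeometry.ZariskisMainTheorem

/-!
# Radicial endomorphisms of integral schemes of finite type over `ℤ` fixing the generic point
-/

set_option autoImplicit false
set_option linter.style.haveILetI false
set_option backward.isDefEq.respectTransparency false
set_option backward.isDefEq.respectTransparency.types false

universe u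

open CategoryTheory Limits AlgebraicGeometry TopologicalSpace

namespace Groth.Agent.UIEndo

open FlatMor

theorem isNagata_uliftInt : CAlg.IsNagata (ULift.{u} ℤ) := by
  haveI : IsPrincipalIdealRing (ULift.{u} ℤ) :=
    IsPrincipalIdealRing.of_surjective ULift.ringEquiv.symm.toRingHom ULift.ringEquiv.symm.surjective
  haveI : IsDomain (ULift.{u} ℤ) := MulEquiv.isDomain ℤ ULift.ringEquiv.toMulEquiv
  refine ⟨isNoetherianRing_uliftInt, fun p hp => ?_⟩
  haveI : IsPrincipalIdealRing (ULift.{u} ℤ ⧸ p) :=
    IsPrincipalIdealRing.of_surjective (Ideal.Quotient.mk p) Ideal.Quotient.mk_surjective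
  intro L _ _ _ _ hfin
  haveI := hfin
  haveI : PerfectField (FractionRing (ULift.{u} ℤ ⧸ p)) := by
    rcases eq_or_ne p ⊥ with rfl | hne
    · haveI : CharZero (ULift.{u} ℤ) := charZero_of_injective_ringHom
        (f := (ULift.ringEquiv (R := ℤ)).symm.toRingHom) ULift.ringEquiv.symm.injective
      haveI : CharZero (ULift.{u} ℤ ⧸ (⊥ : Ideal (ULift.{u} ℤ))) := charZero_of_injective_ringHom
        (f := (RingEquiv.quotientBot (ULift.{u} ℤ)).symm.toRingHom) (RingEquiv.injective _)
      haveI : CharZero (FractionRing (ULift.{u} ℤ ⧸ (⊥ : Ideal (ULift.{u} ℤ)))) :=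
        charZero_of_injective_ringHom
          (f := algebraMap (ULift.{u} ℤ ⧸ (⊥ : Ideal (ULift.{u} ℤ))) _)
          (IsFractionRing.injective _ _)
      infer_instance
    · haveI : p.IsMaximal := IsPrime.to_maximal_ideal hne
      haveI : Finite (ULift.{u} ℤ ⧸ p) := by
        haveI : Algebra.FiniteType ℤ (ULift.{u} ℤ ⧸ p) :=
          Algebra.FiniteType.of_surjective (Algebra.ofId ℤ _) fun x => by
            obtain ⟨r, rfl⟩ := Ideal.Quotient.mk_surjective x
            exact ⟨r.down, by
              rw [Algebra.ofId_apply, eq_intCast, ← map_intCast (Ideal.Quotient.mk p) r.down]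
              congr 1⟩
        letI := Ideal.Quotient.field p
        exact S4886.finite_of_finiteType_int _ (by
          rw [Subsingleton.elim (Int.castRingHom _) (algebraMap ℤ (ULift.{u} ℤ ⧸ p))]
          exact RingHom.finiteType_algebraMap.2 inferInstance)
      haveI : Finite (FractionRing (ULift.{u} ℤ ⧸ p)) :=
        Finite.of_surjective
          (fun q : (ULift.{u} ℤ ⧸ p) × (ULift.{u} ℤ ⧸ p) =>
            algebraMap _ (FractionRing (ULift.{u} ℤ ⧸ p)) q.1 / algebraMap _ _ q.2)
          fun z => by
            obtain ⟨a, b, -, h⟩ := IsFractionRing.div_surjective (A := ULift.{u} ℤ ⧸ p) z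
            exact ⟨(a, b), h⟩
      infer_instance
  exact IsIntegralClosure.finite (ULift.{u} ℤ ⧸ p) (FractionRing (ULift.{u} ℤ ⧸ p)) L _

theorem exists_pow_mem {A B : Scheme.{u}} (g : A ⟶ B) [UniversallyInjective g] (x : A)
    (y : A.residueField x) : ∃ n, 0 < n ∧ y ^ n ∈ Set.range (g.residueFieldMap x) := by
  have h3 : Function.Injective g ∧ ∀ x, (g.residueFieldMap x).hom.IsPurelyInseparable :=
    ((tfae_universallyInjective g).out 0 2).1 ‹UniversallyInjective g›
  have h := h3.2 x
  letI := (g.residueFieldMap x).hom.toAlgebra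
  haveI : IsPurelyInseparable (B.residueField (g x)) (A.residueField x) := h
  obtain ⟨q, hq⟩ := ExpChar.exists (B.residueField (g x))
  obtain ⟨n, z, hz⟩ := IsPurelyInseparable.pow_mem (B.residueField (g x)) q y
  exact ⟨q ^ n, expChar_pow_pos (B.residueField (g x)) q n, z, hz⟩

variable {X : Scheme.{u}} [CompactSpace X] [LocallyOfFiniteType (MonoEndo.toInt X)]

theorem isFinite_of_universallyClosed (g : X ⟶ X) [UniversallyInjective g] [UniversallyClosed g] :
    IsFinite g := by
  haveI := isSeparated g
  haveI := locallyOfFiniteType g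
  haveI : IsProper g := {}
  exact IsFinite.of_isProper_of_locallyQuasiFinite g

theorem isFinite_integral [IsIntegral X] (g : X ⟶ X) [UniversallyInjective g]
    (hη : g (genericPoint X) = genericPoint X) : IsFinite g := by
  haveI := isNoetherian (X := X)
  haveI := locallyOfFiniteType g
  haveI := isSeparated g
  let ρ := X.fromSpecStalk (genericPoint X)
  haveI hqs : QuasiSeparated ρ := inferInstance
  haveI hqc : QuasiCompact ρ := inferInstance
  let ν := Curv2.normalizationι X
  let X' := Curv2.normalization X
  haveI : IsIntegral X' := Curv2Norm.isIntegral X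
  haveI : IsFinite ν := NormFinCpl.isFinite_normalizationι X fun U hU hne => by
    haveI := functionField_isFractionRing_of_isAffineOpen X U hU
    haveI : IsDomain Γ(X, U) := IsIntegral.component_integral U
    letI : Algebra (ULift.{u} ℤ) Γ(X, U) := (NormFinCpl.strHom (MonoEndo.toInt X) hU).toAlgebra
    haveI : Algebra.FiniteType (ULift.{u} ℤ) Γ(X, U) := NormFinCpl.finiteType_strHom _ hU
    have hB : CAlg.IsNagata Γ(X, U) := S0566.result _ isNagata_uliftInt _
    haveI : (⊥ : Ideal Γ(X, U)).IsPrime := Ideal.isPrime_bot
    exact Props.N2Local.finite_integralClosure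
      (Props.N2Local.isN2_of_ringEquiv (RingEquiv.quotientBot Γ(X, U)) (hB.2 ⊥))
      X.functionField X.functionField
  have hN : Pi1.IsNormalScheme X' := fun x => Curv2Norm.isDomain_isIntegrallyClosed_stalk X x
  haveI : IsDominant ν := Curv2Norm.isDominant X
  haveI : Surjective ν := ⟨Set.range_eq_univ.1 <| by
    rw [← (ν.isClosedMap.isClosed_range).closure_eq]; exact ν.denseRange.closure_range⟩
  -- the generic point
  have hνη : ν (genericPoint X') = genericPoint X := by
    have h1 := (genericPoint_spec X').image ν.continuous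
    rw [Set.image_univ, (inferInstance : Surjective ν).surj.range_eq, closure_univ] at h1
    exact h1.eq (genericPoint_spec X)
  haveI : CompactSpace X' := QuasiCompact.compactSpace_of_compactSpace ν
  haveI : LocallyOfFiniteType (MonoEndo.toInt X') := by
    rw [specULiftZIsTerminal.hom_ext (MonoEndo.toInt X') (ν ≫ MonoEndo.toInt X)]
    infer_instance
  obtain ⟨g', hg', -⟩ := S9690.result X (ν ≫ g) hN fun z hz => by
    obtain rfl : z = genericPoint X' := by
      have h1 : closure {z} = (Set.univ : Set X') := by
        rw [irreducibleComponents_eq_singleton] at hz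
        exact hz
      exact (show IsGenericPoint z Set.univ from h1).eq (genericPoint_spec X')
    show (ν ≫ g) (genericPoint X') = genericPoint X
    rw [Scheme.Hom.comp_apply, hνη, hη]
  haveI := isNoetherian (X := X')
  haveI := locallyOfFiniteType g'
  haveI : IsSeparated (g' ≫ ν) := by rw [hg']; infer_instance
  haveI : IsSeparated g' := IsSeparated.of_comp g' ν
  haveI : LocallyQuasiFinite (g' ≫ ν) := by rw [hg']; infer_instance
  haveI : LocallyQuasiFinite g' := LocallyQuasiFinite.of_comp g' ν
  haveI : QuasiCompact g' := inferInstance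
  -- `g'` fixes the generic point
  have hg'η : g' (genericPoint X') = genericPoint X' := by
    have h1 : ν (g' (genericPoint X')) = genericPoint X := by
      rw [← Scheme.Hom.comp_apply, hg']; show (ν ≫ g) (genericPoint X') = _
      rw [Scheme.Hom.comp_apply, hνη, hη]
    have hd := ν.isDiscrete_preimage_singleton (genericPoint X)
    haveI := hd.to_subtype
    have hsp : (⟨genericPoint X', hνη⟩ : ↥(ν ⁻¹' {genericPoint X})) ⤳ ⟨g' (genericPoint X'), h1⟩ :=
      Topology.IsInducing.subtypeVal.specializes_iff.1 (genericPoint_specializes _)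
    exact (congrArg Subtype.val hsp.eq).symm
  -- generic residue fields
  have hsurj : Function.Surjective (ν.residueFieldMap (genericPoint X')) := by
    obtain ⟨U, hU, hηU, -⟩ := exists_isAffineOpen_mem_and_subset
      (x := ν (genericPoint X')) (U := (⊤ : X.Opens)) trivial
    obtain ⟨-, hfrac⟩ := NormUniv.normalizationι_frac X U hU ⟨_, hηU⟩
    have hev := (evaluation_generic _ hνη U hU hηU).1
    obtain ⟨-, hdiv⟩ := evaluation_generic (Y := X') _ rfl (ν ⁻¹ᵁ U) (hU.preimage ν) hηU
    let F := (ν.residueFieldMap (genericPoint X')).hom.fieldRange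
    have hmem : ∀ a, X'.evaluation (ν ⁻¹ᵁ U) (genericPoint X') hηU a ∈ F := fun a => by
      obtain ⟨c, d, hd, hcd⟩ := hfrac a
      refine ⟨X.evaluation U _ hηU c / X.evaluation U _ hηU d, ?_⟩
      have hd0 : X.evaluation U _ hηU d ≠ 0 := fun h => hd (hev (h.trans (map_zero _).symm))
      rw [map_div₀, div_eq_iff ((map_ne_zero _).2 hd0)]
      have h2 := congrArg (X'.evaluation (ν ⁻¹ᵁ U) (genericPoint X') hηU) hcd
      rw [map_mul] at h2
      erw [← Scheme.evaluation_naturality_apply, ← Scheme.evaluation_naturality_apply] at h2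
      exact h2.symm.trans (mul_comm _ _)
    intro e
    obtain ⟨a, b, -, rfl⟩ := hdiv e
    exact (div_mem (hmem a) (hmem b) : _ ∈ F)
  have hins : ∀ x : X'.residueField (genericPoint X'), ∃ n, 0 < n ∧
      x ^ n ∈ Set.range (g'.residueFieldMap (genericPoint X')) := by
    intro x
    obtain ⟨y, rfl⟩ := hsurj x
    obtain ⟨n, hn, c, hc⟩ := exists_pow_mem g (ν (genericPoint X')) y
    refine ⟨n, hn, ?_⟩
    have h1 : (ν.residueFieldMap (genericPoint X') y) ^ n ∈
        Set.range ((ν ≫ g).residueFieldMap (genericPoint X')) :=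
      ⟨c, by
        refine (congr($(Scheme.residueFieldMap_comp ν g (genericPoint X')) c)).trans ?_
        show ν.residueFieldMap _ (g.residueFieldMap _ c) = _
        rw [hc, map_pow]⟩
    rw [← hg'] at h1
    obtain ⟨d, hd⟩ := h1
    exact ⟨ν.residueFieldMap _ d,
      (congr($(Scheme.residueFieldMap_comp g' ν (genericPoint X')) d)).symm.trans hd⟩
  have hwinj := injective_fromNormalization g' hN hg'η hins
  have hfac : ∀ x, g'.fromNormalization (g'.toNormalization x) = g' x := fun x => by
    rw [← Scheme.Hom.comp_apply, g'.toNormalization_fromNormalization]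
  have hinj : Function.Injective g'.base := fun a b h =>
    g'.toNormalization.isOpenEmbedding.injective
      (hwinj ((hfac a).trans (h.trans (hfac b).symm)))
  haveI : Surjective g'.toNormalization := ⟨fun z => by
    obtain ⟨x, hx⟩ := surjective_of_injective g' hinj (g'.fromNormalization z)
    exact ⟨x, hwinj ((hfac x).trans hx)⟩⟩
  haveI : IsIso g'.toNormalization :=
    (isIso_iff_isOpenImmersion_and_surjective _).2 ⟨inferInstance, inferInstance⟩
  haveI : IsIntegralHom g' := by
    rw [← g'.toNormalization_fromNormalization]; infer_instance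
  haveI : IsFinite g' := (IsFinite.iff_isIntegralHom_and_locallyOfFiniteType g').2 ⟨‹_›, ‹_›⟩
  haveI : IsFinite (ν ≫ g) := by rw [← hg']; infer_instance
  haveI : UniversallyClosed g := UniversallyClosed.of_comp_surjective ν g
  exact isFinite_of_universallyClosed g

end Groth.Agent.UIEndo
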